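import Cfsg.Agent.H852.XG.Form

/-!
# S4791 + S4927: tori of rank 2 with elements of order `p ^ e` (helper852)

`m : MData hp r q K₀`; `s`, `t` orthogonal roots fixed by the Frobenius automorphism, `n = p ^ e` divides `q - 1` or `q + 1`:
the data `Tor` of `H852/XG/Form.lean`.
-/

set_option autoImplicit false
set_option linter.unusedSectionVars false

namespace Cfsg.Agent.H852.XG

open CoxeterSystem Cfsg Cfsg.Lie Cfsg.Lie.ChevalleyDatum
open Cfsg.Agent.ChevalleyStructure Cfsg.Agent.ChevalleyStructure.Elts Cfsg.Agent.ChevalleyStructure.CoxeterGeom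
  Cfsg.Agent.ChevalleyStructure.CoxeterGeomTypes Cfsg.Agent.ChevalleyStructure.NPerm
open Cfsg.Agent.Tits.Roots Cfsg.Agent.Tits.Core Cfsg.Agent.Nodes Cfsg.Agent.Nodes.Reps Cfsg.Agent.Nodes.BNOf
  Cfsg.Agent.Nodes.RGDChev
open Cfsg.Agent.KFacts.RgdChevCoord
open Cfsg.Agent.ChevalleyStructure.SL2Hom (up lo)
open Cfsg.Agent.Nodes.RGDFold Cfsg.Agent.Nodes.RGDFoldSL
open Cfsg.Agent.H469.Exc Cfsg.Agent.H469.Exc.SigFr Cfsg.Agent.H316.U6
open Cfsg.Agent.BpExc.LangFr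
open Cfsg.Agent.ChevalleyStructure.HMatDiagAll (expo)
open Cfsg.Agent.H81.TorOrth Cfsg.Agent.H349.KBE

universe u v

variable {D : ChevalleyDatum} {l : ℕ} {M : CoxeterMatrix (Fin l)} {hp : IsType D l M} {r q : ℕ}
  [hr : Fact r.Prime] {K₀ : Type v} [Group K₀] (m : MData hp r q K₀)

/-- the element `x_s` for a semisimple `z` with `z ^ q = z` or `z ^ q = z⁻¹` -/
theorem exists_elt' {s : ℕ} (hs : s < D.nroots) (hg : m.g (vec D l s) = vec D l s) {z : KK r} (hz0 : z ≠ 0)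
    (hz2 : z * z ≠ 1) (ht : (z + z⁻¹) ^ q = z + z⁻¹) :
    ∃ (a : K₀) (g w : Matrix.SpecialLinearGroup (Fin 2) (KK r)), m.ι a = ps hp hs g ∧ w * g * w⁻¹ = hS z := by
  have hq2 : 2 ≤ q := by
    rw [← m.hq]
    calc 2 ≤ r := hr.out.two_le
      _ = r ^ 1 := (pow_one r).symm
      _ ≤ r ^ m.e := Nat.pow_le_pow_right hr.out.pos m.he
  have hsub : ∀ a b : KK r, (a - b) ^ q = a ^ q - b ^ q := by
    intro a b
    rw [← m.hq]
    exact sub_pow_char_pow a b m.e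
  obtain ⟨s', hv, hs', c, hc, h1, h2⟩ := m.act s hs
  have hss : s' = s := vec_inj hp hs' hs (hv.trans hg)
  subst hss
  obtain ⟨b, hb⟩ := IsAlgClosed.exists_pow_nat_eq c⁻¹ (show 0 < q - 1 by omega)
  have hb0 : b ≠ 0 := by
    rintro rfl
    rw [zero_pow (by omega)] at hb
    exact inv_ne_zero hc hb.symm
  have hbq : c * b ^ q = b := by
    calc c * b ^ q = c * b ^ (q - 1 + 1) := by rw [Nat.sub_add_cancel (by omega)]
      _ = b := by rw [pow_succ, hb, mul_inv_cancel_left₀ hc]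
  have hbq' : c⁻¹ * b⁻¹ ^ q = b⁻¹ := by
    rw [inv_pow, ← mul_inv, hbq]
  have e0 : ∀ t : KK r, xs hp.inList s' t ^ r ^ 1 = 1 := fun t => by rw [pow_one]; exact xs_pow_r (hp := hp) s' t
  have e0' : ∀ t : KK r, xs hp.inList (D.neg s') t ^ r ^ 1 = 1 := fun t => by rw [pow_one]; exact xs_pow_r (hp := hp) _ t
  obtain ⟨a1, ha1⟩ := m.exists_eq (u := xs hp.inList s' (-b)) (by
    rw [h1, ← zero_sub, hsub, zero_pow (by omega), zero_sub, mul_neg, hbq, zero_sub]) ⟨1, e0 _⟩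
  obtain ⟨a2, ha2⟩ := m.exists_eq (u := xs hp.inList (D.neg s') b⁻¹) (by rw [h2, hbq']) ⟨1, e0' _⟩
  obtain ⟨a3, ha3⟩ := m.exists_eq (u := xs hp.inList s' (b * (z + z⁻¹ - 1))) (by
    rw [h1, mul_pow, hsub, ht, one_pow, ← mul_assoc, hbq]) ⟨1, e0 _⟩
  refine ⟨a1 * a2 * a3, mA b (z + z⁻¹), mW hb0 hz0 hz2, ?_, mW_conj hb0 hz0 hz2⟩
  rw [map_mul, map_mul, ha1, ha2, ha3, mA, map_mul, map_mul, ps_up, ps_lo, ps_up]

include m in
theorem trace_fixed {n : ℕ} (hn : n ∣ q - 1 ∨ n ∣ q + 1) {z : KK r} (hz : z ^ n = 1) :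
    (z + z⁻¹) ^ q = z + z⁻¹ := by
  have hq2 : 2 ≤ q := by
    rw [← m.hq]
    calc 2 ≤ r := hr.out.two_le
      _ = r ^ 1 := (pow_one r).symm
      _ ≤ r ^ m.e := Nat.pow_le_pow_right hr.out.pos m.he
  have hadd : ∀ a b : KK r, (a + b) ^ q = a ^ q + b ^ q := by
    intro a b
    rw [← m.hq]
    exact add_pow_char_pow a b r m.e
  rw [hadd]
  rcases hn with ⟨t, h3⟩ | ⟨t, h3⟩
  · have h4 : z ^ (q - 1) = 1 := by rw [h3, pow_mul, hz, one_pow]
    have h5 : z ^ q = z := by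
      calc z ^ q = z ^ (q - 1 + 1) := by rw [Nat.sub_add_cancel (by omega)]
        _ = z := by rw [pow_succ, h4, one_mul]
    rw [inv_pow, h5]
  · have h4 : z ^ (q + 1) = 1 := by rw [h3, pow_mul, hz, one_pow]
    have h5 : z ^ q = z⁻¹ := by
      rw [pow_succ] at h4
      exact eq_inv_of_mul_eq_one_left h4
    rw [inv_pow, h5, inv_inv, add_comm]

theorem pow_elt {n : ℕ} {s : ℕ} (hs : s < D.nroots) {z : KK r} (hz0 : z ≠ 0) (hz : z ^ n = 1) {a : K₀}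
    {g w : Matrix.SpecialLinearGroup (Fin 2) (KK r)} (ha : m.ι a = ps hp hs g) (hw : w * g * w⁻¹ = hS z) : a ^ n = 1 := by
  have h1 : ps hp hs w * m.ι a * (ps hp hs w)⁻¹ = ps hp hs (hS z) := by
    rw [ha, ← map_mul, ← map_inv, ← map_mul, hw]
  have h2 : ps hp hs (hS z) ^ n = 1 := by
    apply Subtype.ext
    rw [Subgroup.coe_pow, coe_ps_hS]
    exact Cfsg.Agent.KFacts.Mult.Chev.hG_pow hp.inList hs hz0 hz
  have h3 : m.ι a ^ n = 1 := by
    rw [← h1, conj_pow] at h2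
    have h4 := mul_inv_eq_one.1 h2
    exact mul_eq_left.1 h4
  exact m.inj (by rw [map_pow, h3, map_one])

/-- **the torus** -/
theorem tor_of {p n : ℕ} [hpp : Fact p.Prime] (hp2 : p ≠ 2) (hpn : p ∣ n) (hn : n ∣ q - 1 ∨ n ∣ q + 1) {z : KK r}
    (hz : IsPrimitiveRoot z n) (hn0 : n ≠ 0) {s t : ℕ}
    (hs : s < D.nroots) (ht : t < D.nroots) (hgs : m.g (vec D l s) = vec D l s) (hgt : m.g (vec D l t) = vec D l t)
    (hc : Cm D s t = true) {A C : ℤ} (hA : ∑ x : Fin D.nroots, expo D s x.val ^ 2 = A)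
    (hC : ∑ x : Fin D.nroots, expo D t x.val ^ 2 = C)
    (hB : ∑ x : Fin D.nroots, expo D s x.val * expo D t x.val = 0)
    (hA' : (A : ZMod p) ≠ 0) (hC' : (C : ZMod p) ≠ 0) :
    ∃ a b : K₀, Tor ((D.group (KK r)).subtype.comp m.ι) p n z a b (ex D s) (ex D t) A C := by
  have hz0 : z ≠ 0 := hz.ne_zero hn0
  have hz2 : z * z ≠ 1 := by
    intro h
    have h1 : n ∣ 2 := hz.dvd_of_pow_eq_one 2 (by rw [sq]; exact h)
    exact hp2 ((Nat.prime_dvd_prime_iff_eq hpp.out Nat.prime_two).1 (hpn.trans h1))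
  have htr := trace_fixed m hn hz.pow_eq_one
  obtain ⟨a, g, w, ha, hw⟩ := exists_elt' m hs hgs hz0 hz2 htr
  obtain ⟨b, g', w', hb, hw'⟩ := exists_elt' m ht hgt hz0 hz2 htr
  have hab : a * b = b * a := m.inj (by rw [map_mul, map_mul, ha, hb, ps_comm hp hs ht hc])
  have h1 : ps hp hs w * m.ι a * (ps hp hs w)⁻¹ = ps hp hs (hS z) := by
    rw [ha, ← map_mul, ← map_inv, ← map_mul, hw]
  have h2 : ps hp ht w' * m.ι b * (ps hp ht w')⁻¹ = ps hp ht (hS z) := by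
    rw [hb, ← map_mul, ← map_inv, ← map_mul, hw']
  obtain ⟨y, hy⟩ : ∃ y : ↥(D.group (KK r)), y = ps hp hs w * ps hp ht w' := ⟨_, rfl⟩
  have h3 : y * m.ι a * y⁻¹ = ps hp hs (hS z) := by
    rw [← h1, hy, ha, mul_inv_rev]
    have e := ps_comm hp hs ht hc g w'
    calc ps hp hs w * ps hp ht w' * ps hp hs g * ((ps hp ht w')⁻¹ * (ps hp hs w)⁻¹)
        = ps hp hs w * (ps hp ht w' * ps hp hs g) * (ps hp ht w')⁻¹ * (ps hp hs w)⁻¹ := by group
      _ = ps hp hs w * (ps hp hs g * ps hp ht w') * (ps hp ht w')⁻¹ * (ps hp hs w)⁻¹ := by rw [e]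
      _ = _ := by group
  have h4 : y * m.ι b * y⁻¹ = ps hp ht (hS z) := by
    have e := ps_comm hp hs ht hc w (hS z)
    calc y * m.ι b * y⁻¹ = ps hp hs w * (ps hp ht w' * m.ι b * (ps hp ht w')⁻¹) * (ps hp hs w)⁻¹ := by
          rw [hy]; group
      _ = ps hp hs w * ps hp ht (hS z) * (ps hp hs w)⁻¹ := by rw [h2]
      _ = _ := by rw [e]; group
  refine ⟨a, b, ⟨hab, pow_elt m hs hz0 hz.pow_eq_one ha hw, pow_elt m ht hz0 hz.pow_eq_one hb hw', hz0, hz, hpn, ?_, ?_, ?_,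
    ?_, hA', hC'⟩⟩
  · intro i j
    refine ⟨((ps hp hs (hS z) ^ i * ps hp ht (hS z) ^ j : ↥(D.group (KK r))) : GL D.Idx (KK r)), ?_,
      entry' hs ht hz0 i j⟩
    have h5 : IsConj (m.ι (a ^ i * b ^ j)) (ps hp hs (hS z) ^ i * ps hp ht (hS z) ^ j) := by
      refine isConj_iff.2 ⟨y, ?_⟩
      rw [map_mul, map_pow, map_pow, ← h3, ← h4, conj_pow, conj_pow]
      group
    exact (D.group (KK r)).subtype.map_isConj h5
  · rw [sum_ex_sq, hA]
  · rw [sum_ex_sq, hC]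
  · rw [sum_ex, hB]

end Cfsg.Agent.H852.XG
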