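import Cfsg.Agent.H603.AP.Rank
import Cfsg.Agent.H349.KBE.TwoRoots

/-!
# S4791 + S4927: invariant forms on a Sylow subgroup of rank 2 (helper852)

`φ : K → GL ι k`, `a`, `b` commuting elements of `K` with `φ (a ^ i b ^ j)` conjugate to `diag (z ^ (i d x + j e x))`.

* `FF φ p z m` : the power sums of the exponents of the eigenvalues, a class function;
* `Tor` : the data;
* `form C A d e a b m` : the function `∑ x, (C d x l(a) + A e x l(b)) ^ m` on the linear characters of exponent `p`;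
* `form_pol`, `form_winv` : it is a homogeneous polynomial of degree `m`, invariant under `N(P)`;
* `exists_pt` : the values `l(a)`, `l(b)` are arbitrary.
-/

set_option autoImplicit false
set_option linter.unusedSectionVars false

namespace Cfsg.Agent.H852.XG

open Cfsg Cfsg.Agent.H349.KBE Cfsg.Agent.H603.AP

universe u

section FF

variable {ι k : Type*} [Fintype ι] [DecidableEq ι] [Field k] {K : Type u} [Group K]

theorem lg_zpow' {p n : ℕ} (hpn : p ∣ n) {z : k} (hz0 : z ≠ 0) (hz : IsPrimitiveRoot z n) (m : ℤ) : lg p z (z ^ m) = (m : ZMod p) := by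
  have h : ∃ j : ℤ, z ^ j = z ^ m := ⟨m, rfl⟩
  unfold lg
  rw [dif_pos h]
  have h1 := h.choose_spec
  have h2 : z ^ (h.choose - m) = 1 := by rw [zpow_sub₀ hz0, h1, div_self (zpow_ne_zero _ hz0)]
  have h3 := (hz.zpow_eq_one_iff_dvd _).1 h2
  have h4 := (ZMod.intCast_zmod_eq_zero_iff_dvd _ p).2 ((Int.natCast_dvd_natCast.2 hpn).trans h3)
  rw [Int.cast_sub, sub_eq_zero] at h4
  exact h4

/-- the power sums of the exponents of the eigenvalues -/
noncomputable def FF (φ : K →* GL ι k) (p : ℕ) (z : k) (m : ℕ) (x : K) : ZMod p :=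
  ((Matrix.charpoly ((φ x : GL ι k) : Matrix ι ι k)).roots.map fun y => lg p z y ^ m).sum

theorem FF_isConj (φ : K →* GL ι k) (p : ℕ) (z : k) (m : ℕ) {x y : K} (h : IsConj x y) : FF φ p z m x = FF φ p z m y := by
  unfold FF
  rw [charpoly_of_isConj (φ.map_isConj h)]

theorem FF_diag (φ : K →* GL ι k) {p n : ℕ} (hpn : p ∣ n) {z : k} (hz0 : z ≠ 0) (hz : IsPrimitiveRoot z n) (m : ℕ) {x : K}
    {g : GL ι k} (hg : IsConj (φ x) g) {d : ι → ℤ} (hd : (g : Matrix ι ι k) = Matrix.diagonal fun i => z ^ d i) :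
    FF φ p z m x = ∑ i, ((d i : ℤ) : ZMod p) ^ m := by
  unfold FF
  rw [← charpoly_of_isConj hg, hd, Matrix.charpoly_diagonal]
  have h4 := Polynomial.roots_multiset_prod_X_sub_C (Finset.univ.val.map fun i => z ^ d i)
  rw [Multiset.map_map] at h4
  have h5 : (∏ i, (Polynomial.X - Polynomial.C (z ^ d i))).roots = Finset.univ.val.map fun i => z ^ d i := h4
  rw [h5, Multiset.map_map]
  simp only [Function.comp_def, lg_zpow' hpn hz0 hz]
  rfl

end FF

section Tor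

variable {ι k : Type*} [Fintype ι] [DecidableEq ι] [Field k] {K : Type u} [Group K]

/-- the data -/
structure Tor (φ : K →* GL ι k) (p n : ℕ) (z : k) (a b : K) (d e : ι → ℤ) (A C : ℤ) : Prop where
  comm : a * b = b * a
  pa : a ^ n = 1
  pb : b ^ n = 1
  z0 : z ≠ 0
  hz : IsPrimitiveRoot z n
  pn : p ∣ n
  diag : ∀ i j : ℕ, ∃ g : GL ι k, IsConj (φ (a ^ i * b ^ j)) g ∧
    (g : Matrix ι ι k) = Matrix.diagonal fun x => z ^ ((i : ℤ) * d x + (j : ℤ) * e x)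
  hA : ∑ x, d x ^ 2 = A
  hC : ∑ x, e x ^ 2 = C
  hB : ∑ x, d x * e x = 0
  A0 : (A : ZMod p) ≠ 0
  C0 : (C : ZMod p) ≠ 0

variable {φ : K →* GL ι k} {p n : ℕ} {z : k} {a b : K} {d e : ι → ℤ} {A C : ℤ} (T : Tor φ p n z a b d e A C)

include T

theorem Tor.FF_ab (m i j : ℕ) : FF φ p z m (a ^ i * b ^ j) = ∑ x, ((i : ZMod p) * d x + (j : ZMod p) * e x) ^ m := by
  obtain ⟨g, hg, hg'⟩ := T.diag i j
  rw [FF_diag φ T.pn T.z0 T.hz m hg hg']
  refine Finset.sum_congr rfl fun x _ => ?_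
  push_cast
  rfl

theorem Tor.mul_ab (i j i' j' : ℕ) : a ^ i * b ^ j * (a ^ i' * b ^ j') = a ^ (i + i') * b ^ (j + j') := by
  have hC : Commute a b := T.comm
  rw [pow_add, pow_add, mul_assoc, mul_assoc, ← mul_assoc (b ^ j), ← mul_assoc (a ^ i'), (hC.pow_pow i' j).eq]

/-- the bilinear form -/
theorem Tor.bil (i j i' j' : ℕ) : FF φ p z 2 (a ^ i * b ^ j * (a ^ i' * b ^ j')) - FF φ p z 2 (a ^ i * b ^ j) -
    FF φ p z 2 (a ^ i' * b ^ j') = 2 * ((i : ZMod p) * i' * A + (j : ZMod p) * j' * C) := by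
  rw [T.mul_ab, T.FF_ab, T.FF_ab, T.FF_ab]
  have hA : (A : ZMod p) = ∑ x, (d x : ZMod p) ^ 2 := by rw [← T.hA]; push_cast; rfl
  have hC : (C : ZMod p) = ∑ x, (e x : ZMod p) ^ 2 := by rw [← T.hC]; push_cast; rfl
  have hB : (0 : ZMod p) = ∑ x, (d x : ZMod p) * (e x : ZMod p) := by
    have h := congrArg (fun t : ℤ => (t : ZMod p)) T.hB
    push_cast at h
    exact h.symm
  have h1 : ∀ x, (((i + i' : ℕ) : ZMod p) * d x + ((j + j' : ℕ) : ZMod p) * e x) ^ 2 -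
      ((i : ZMod p) * d x + (j : ZMod p) * e x) ^ 2 - ((i' : ZMod p) * d x + (j' : ZMod p) * e x) ^ 2 =
      2 * i * i' * (d x : ZMod p) ^ 2 + 2 * j * j' * (e x : ZMod p) ^ 2 + 2 * (i * j' + i' * j) * ((d x : ZMod p) * e x) := by
    intro x
    push_cast
    ring
  rw [← Finset.sum_sub_distrib, ← Finset.sum_sub_distrib, Finset.sum_congr rfl fun x _ => h1 x, Finset.sum_add_distrib,
    Finset.sum_add_distrib, ← Finset.mul_sum, ← Finset.mul_sum, ← Finset.mul_sum, ← hA, ← hC, ← hB]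
  ring

variable [hp : Fact p.Prime] [Finite K]

theorem Tor.exists_nat {x : K} (hx : x ∈ Subgroup.zpowers a ⊔ Subgroup.zpowers b) : ∃ i j : ℕ, x = a ^ i * b ^ j := by
  have hC : Commute a b := T.comm
  have hle : Subgroup.zpowers a ⊔ Subgroup.zpowers b ≤
      ({ carrier := {x | ∃ i j : ℤ, x = a ^ i * b ^ j}
         one_mem' := ⟨0, 0, by simp⟩
         mul_mem' := by
           rintro _ _ ⟨i, j, rfl⟩ ⟨i', j', rfl⟩
           refine ⟨i + i', j + j', ?_⟩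
           rw [zpow_add, zpow_add, mul_assoc, mul_assoc, ← mul_assoc (b ^ j), ← mul_assoc (a ^ i'),
             (hC.zpow_zpow i' j).eq]
         inv_mem' := by
           rintro _ ⟨i, j, rfl⟩
           refine ⟨-i, -j, ?_⟩
           rw [mul_inv_rev, zpow_neg, zpow_neg, ((hC.zpow_zpow i j).inv_inv).eq] } : Subgroup K) := by
    refine sup_le ?_ ?_
    · rw [Subgroup.zpowers_le]
      exact ⟨1, 0, by simp⟩
    · rw [Subgroup.zpowers_le]
      exact ⟨0, 1, by simp⟩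
  obtain ⟨i, j, rfl⟩ := hle hx
  have h1 : ∀ (g : K) (t : ℤ), ∃ s : ℕ, g ^ t = g ^ s := fun g t => by
    obtain ⟨s, hs⟩ := (isOfFinOrder_of_finite g).mem_powers_iff_mem_zpowers.2 (⟨t, rfl⟩ : g ^ t ∈ Subgroup.zpowers g)
    exact ⟨s, hs.symm⟩
  obtain ⟨s, hs⟩ := h1 a i
  obtain ⟨t, ht⟩ := h1 b j
  exact ⟨s, t, by rw [hs, ht]⟩

/-! ### the form -/

variable {P : Sylow p K} (hP : (P : Subgroup K) = Subgroup.zpowers a ⊔ Subgroup.zpowers b)

omit T in
theorem mem_a (hP : (P : Subgroup K) = Subgroup.zpowers a ⊔ Subgroup.zpowers b) : a ∈ (P : Subgroup K) := by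
  rw [hP]; exact Subgroup.mem_sup_left (Subgroup.mem_zpowers a)

omit T in
theorem mem_b (hP : (P : Subgroup K) = Subgroup.zpowers a ⊔ Subgroup.zpowers b) : b ∈ (P : Subgroup K) := by
  rw [hP]; exact Subgroup.mem_sup_right (Subgroup.mem_zpowers b)

omit T in
/-- the form -/
def form (p : ℕ) {P : Type u} [Group P] (A C : ℤ) (d e : ι → ℤ) (a b : P) (m : ℕ) : LL p P → ZMod p :=
  fun l => ∑ x, ((C : ZMod p) * d x * ev l a + (A : ZMod p) * e x * ev l b) ^ m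

omit T in
theorem form_pol {P : Type u} [Group P] (A C : ℤ) (d e : ι → ℤ) (a b : P) (m : ℕ) : form p A C d e a b m ∈ Pol p P m := by
  have h1 : form p A C d e a b m = ∑ x, (fun l : LL p P => (C : ZMod p) * d x * ev l a + (A : ZMod p) * e x * ev l b) ^ m := by
    funext l
    rw [Finset.sum_apply]
    rfl
  rw [h1]
  refine Submodule.sum_mem _ fun x _ => ?_
  have h2 : (fun l : LL p P => (C : ZMod p) * d x * ev l a + (A : ZMod p) * e x * ev l b) ∈ Pol p P 1 := by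
    have h3 := Submodule.add_mem _ (Submodule.smul_mem _ ((C : ZMod p) * d x) (ev_mem (p := p) a))
      (Submodule.smul_mem _ ((A : ZMod p) * e x) (ev_mem (p := p) b))
    exact h3
  have h3 := Pol_pow h2 m
  rwa [mul_one] at h3

theorem Tor.ev_ab (l : LL p P) (i j : ℕ) (x : P) (hx : (x : K) = a ^ i * b ^ j) :
    ev l x = i * ev l ⟨a, mem_a hP⟩ + j * ev l ⟨b, mem_b hP⟩ := by
  have h1 : x = (⟨a, mem_a hP⟩ : P) ^ i * (⟨b, mem_b hP⟩ : P) ^ j := Subtype.ext hx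
  rw [h1, ev_mul, ev_pow, ev_pow]

theorem Tor.form_eq (l : LL p P) (m : ℕ) : form p A C d e (⟨a, mem_a hP⟩ : P) ⟨b, mem_b hP⟩ m l =
    FF φ p z m (a ^ ((C : ZMod p) * ev l ⟨a, mem_a hP⟩).val * b ^ ((A : ZMod p) * ev l ⟨b, mem_b hP⟩).val) := by
  rw [T.FF_ab, ZMod.natCast_zmod_val, ZMod.natCast_zmod_val]
  unfold form
  refine Finset.sum_congr rfl fun x _ => ?_
  ring

/-- the form is invariant -/
theorem Tor.form_winv (hp2 : p ≠ 2) (m : ℕ) : WInv P (form p A C d e (⟨a, mem_a hP⟩ : P) ⟨b, mem_b hP⟩ m) := by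
  intro n hn l l' hl
  have h2 : (2 : ZMod p) ≠ 0 := by
    intro h
    have h1 : p ∣ 2 := (ZMod.natCast_eq_zero_iff 2 p).1 (by exact_mod_cast h)
    exact hp2 ((Nat.prime_dvd_prime_iff_eq hp.out Nat.prime_two).1 h1)
  rw [T.form_eq hP l m, T.form_eq hP l' m]
  obtain ⟨i, hi⟩ : ∃ i, i = ((C : ZMod p) * ev l ⟨a, mem_a hP⟩).val := ⟨_, rfl⟩
  obtain ⟨j, hj⟩ : ∃ j, j = ((A : ZMod p) * ev l ⟨b, mem_b hP⟩).val := ⟨_, rfl⟩
  rw [← hi, ← hj]
  have hi' : (i : ZMod p) = (C : ZMod p) * ev l ⟨a, mem_a hP⟩ := by rw [hi, ZMod.natCast_zmod_val]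
  have hj' : (j : ZMod p) = (A : ZMod p) * ev l ⟨b, mem_b hP⟩ := by rw [hj, ZMod.natCast_zmod_val]
  -- the conjugate
  have hxP : a ^ i * b ^ j ∈ (P : Subgroup K) := mul_mem (pow_mem (mem_a hP) i) (pow_mem (mem_b hP) j)
  have hyP : n * (a ^ i * b ^ j) * n⁻¹ ∈ (P : Subgroup K) := (Subgroup.mem_normalizer_iff.1 hn _).1 hxP
  obtain ⟨s, t, hst⟩ := T.exists_nat (hP ▸ hyP)
  have hbil : ∀ (w : K) (hw : w ∈ (P : Subgroup K)) (i' j' : ℕ), w = a ^ i' * b ^ j' →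
      (s : ZMod p) * i' * A + (t : ZMod p) * j' * C = A * C * ev l' ⟨w, hw⟩ := by
    intro w hw i' j' hwe
    have hw1 : n⁻¹ * w * n ∈ (P : Subgroup K) := by
      have h1 := (Subgroup.mem_normalizer_iff.1 (inv_mem hn) w).1 hw
      rwa [inv_inv] at h1
    obtain ⟨s1, t1, hst1⟩ := T.exists_nat (hP ▸ hw1)
    have h3 := T.bil s t i' j'
    have h4 := T.bil i j s1 t1
    have e1 : FF φ p z 2 (a ^ s * b ^ t * (a ^ i' * b ^ j')) = FF φ p z 2 (a ^ i * b ^ j * (a ^ s1 * b ^ t1)) := by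
      refine FF_isConj φ p z 2 (isConj_iff.2 ⟨n⁻¹, ?_⟩)
      rw [← hst, ← hwe, ← hst1]
      group
    have e2 : FF φ p z 2 (a ^ s * b ^ t) = FF φ p z 2 (a ^ i * b ^ j) := by
      refine FF_isConj φ p z 2 (isConj_iff.2 ⟨n⁻¹, ?_⟩)
      rw [← hst]
      group
    have e3 : FF φ p z 2 (a ^ i' * b ^ j') = FF φ p z 2 (a ^ s1 * b ^ t1) := by
      refine FF_isConj φ p z 2 (isConj_iff.2 ⟨n⁻¹, ?_⟩)
      rw [← hwe, ← hst1]
      group
    rw [e1, e2, e3, h4] at h3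
    have h5 := mul_left_cancel₀ h2 h3
    have h6 : ev l' ⟨w, hw⟩ = ev l ⟨n⁻¹ * w * n, hw1⟩ := hl _ _ (by
      show n * (n⁻¹ * w * n) * n⁻¹ = w
      group)
    rw [← h5, h6, T.ev_ab hP l s1 t1 ⟨n⁻¹ * w * n, hw1⟩ hst1, hi', hj']
    ring
  have ha := hbil a (mem_a hP) 1 0 (by simp)
  have hb := hbil b (mem_b hP) 0 1 (by simp)
  have hs : (s : ZMod p) = (C : ZMod p) * ev l' ⟨a, mem_a hP⟩ := by
    apply mul_left_cancel₀ T.A0
    push_cast at ha
    linear_combination ha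
  have ht : (t : ZMod p) = (A : ZMod p) * ev l' ⟨b, mem_b hP⟩ := by
    apply mul_left_cancel₀ T.C0
    push_cast at hb
    linear_combination hb
  have h7 : FF φ p z m (a ^ i * b ^ j) = FF φ p z m (a ^ s * b ^ t) :=
    FF_isConj φ p z m (isConj_iff.2 ⟨n, hst⟩)
  rw [h7, T.FF_ab, T.FF_ab, ZMod.natCast_zmod_val, ZMod.natCast_zmod_val, hs, ht]

/-- the values are arbitrary -/
theorem Tor.exists_pt (hp2 : p ≠ 2) (u v : ZMod p) : ∃ l : LL p P, ev l ⟨a, mem_a hP⟩ = u ∧ ev l ⟨b, mem_b hP⟩ = v := by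
  have h2 : (2 : ZMod p) ≠ 0 := by
    intro h
    have h1 : p ∣ 2 := (ZMod.natCast_eq_zero_iff 2 p).1 (by exact_mod_cast h)
    exact hp2 ((Nat.prime_dvd_prime_iff_eq hp.out Nat.prime_two).1 h1)
  obtain ⟨x0, hx0⟩ : ∃ x0 : K, x0 = a ^ ((C : ZMod p) * u).val * b ^ ((A : ZMod p) * v).val := ⟨_, rfl⟩
  let h : K → ZMod p := fun y => (2 * (A : ZMod p) * C)⁻¹ * (FF φ p z 2 (x0 * y) - FF φ p z 2 x0 - FF φ p z 2 y)
  have hh : ∀ s t : ℕ, h (a ^ s * b ^ t) = s * u + t * v := by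
    intro s t
    have h1 : h (a ^ s * b ^ t) = (2 * (A : ZMod p) * C)⁻¹ * (FF φ p z 2 (x0 * (a ^ s * b ^ t)) - FF φ p z 2 x0 -
      FF φ p z 2 (a ^ s * b ^ t)) := rfl
    rw [h1, hx0, T.bil, ZMod.natCast_zmod_val, ZMod.natCast_zmod_val]
    have hA := T.A0
    have hC := T.C0
    field_simp
  have hadd : ∀ x y : K, x ∈ (P : Subgroup K) → y ∈ (P : Subgroup K) → h (x * y) = h x + h y := by
    intro x y hx hy
    obtain ⟨i, j, rfl⟩ := T.exists_nat (hP ▸ hx)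
    obtain ⟨i', j', rfl⟩ := T.exists_nat (hP ▸ hy)
    rw [T.mul_ab, hh, hh, hh]
    push_cast
    ring
  have hone : h 1 = 0 := by
    have h1 := hh 0 0
    simpa using h1
  refine ⟨{ toFun := fun x => Multiplicative.ofAdd (h x), map_one' := ?_, map_mul' := ?_ }, ?_, ?_⟩
  · show Multiplicative.ofAdd (h 1) = 1
    rw [hone]
    rfl
  · intro x y
    show Multiplicative.ofAdd (h (x * y)) = _
    rw [hadd x y x.2 y.2]
    rfl
  · show h a = u
    have h1 := hh 1 0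
    simpa using h1
  · show h b = v
    have h1 := hh 0 1
    simpa using h1

end Tor

end Cfsg.Agent.H852.XG
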