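import Cfsg.Agent.H852.XG.Elt

/-!
# S4791 + S4927: two independent invariant forms of degree `p - 3` (helper852)

* `Tor.card_sup` : `⟨a, b⟩` has order `n ^ 2`;
* `Two` : the Sylow `p`-subgroup is abelian and has two linearly independent invariant homogeneous forms of degree `p - 3`;
* `Tor.two` : from `Tor` and the power sums.
-/

set_option autoImplicit false
set_option linter.unusedSectionVars false

namespace Cfsg.Agent.H852.XG

open Cfsg Cfsg.Agent.H349.KBE Cfsg.Agent.H603.AP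

universe u

variable {ι k : Type*} [Fintype ι] [DecidableEq ι] [Field k] {K : Type u} [Group K]

section card

variable {φ : K →* GL ι k} {p n : ℕ} {z : k} {a b : K} {d e : ι → ℤ} {A C : ℤ} (T : Tor φ p n z a b d e A C)

include T

theorem Tor.dvd_of_eq_one [hpp : Fact p.Prime] {t : ℕ} (hn : n = p ^ t) {i j : ℕ} (h : a ^ i * b ^ j = 1) : n ∣ i ∧ n ∣ j := by
  obtain ⟨g, hg, hg'⟩ := T.diag i j
  rw [h, map_one, isConj_one_right] at hg
  subst hg
  have h1 : ∀ x, z ^ ((i : ℤ) * d x + (j : ℤ) * e x) = 1 := by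
    intro x
    have h2 := congrFun (congrFun hg' x) x
    rw [Matrix.diagonal_apply_eq] at h2
    rw [← h2]
    simp
  have h2 : ∀ x, (n : ℤ) ∣ (i : ℤ) * d x + (j : ℤ) * e x := fun x => (T.hz.zpow_eq_one_iff_dvd _).1 (h1 x)
  have h3 : (n : ℤ) ∣ (i : ℤ) * A := by
    have h4 : (n : ℤ) ∣ ∑ x, ((i : ℤ) * d x + (j : ℤ) * e x) * d x := Finset.dvd_sum fun x _ => (h2 x).mul_right _
    have h5 : ∑ x, ((i : ℤ) * d x + (j : ℤ) * e x) * d x = (i : ℤ) * A := by
      have h6 : ∀ x, ((i : ℤ) * d x + (j : ℤ) * e x) * d x = i * d x ^ 2 + j * (d x * e x) := fun x => by ring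
      rw [Finset.sum_congr rfl fun x _ => h6 x, Finset.sum_add_distrib, ← Finset.mul_sum, ← Finset.mul_sum, T.hA, T.hB,
        mul_zero, add_zero]
    rwa [h5] at h4
  have h3' : (n : ℤ) ∣ (j : ℤ) * C := by
    have h4 : (n : ℤ) ∣ ∑ x, ((i : ℤ) * d x + (j : ℤ) * e x) * e x := Finset.dvd_sum fun x _ => (h2 x).mul_right _
    have h5 : ∑ x, ((i : ℤ) * d x + (j : ℤ) * e x) * e x = (j : ℤ) * C := by
      have h6 : ∀ x, ((i : ℤ) * d x + (j : ℤ) * e x) * e x = i * (d x * e x) + j * e x ^ 2 := fun x => by ring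
      rw [Finset.sum_congr rfl fun x _ => h6 x, Finset.sum_add_distrib, ← Finset.mul_sum, ← Finset.mul_sum, T.hC, T.hB,
        mul_zero, zero_add]
    rwa [h5] at h4
  have hcop : ∀ B : ℤ, (B : ZMod p) ≠ 0 → IsCoprime (n : ℤ) B := by
    intro B hB
    rw [hn]
    push_cast
    refine IsCoprime.pow_left ((Nat.prime_iff_prime_int.1 hpp.out).coprime_iff_not_dvd.2 fun h => hB ?_)
    exact (ZMod.intCast_zmod_eq_zero_iff_dvd B p).2 h
  refine ⟨?_, ?_⟩
  · exact_mod_cast (hcop A T.A0).dvd_of_dvd_mul_right h3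
  · exact_mod_cast (hcop C T.C0).dvd_of_dvd_mul_right h3'

theorem Tor.card_sup [hpp : Fact p.Prime] [Finite K] {t : ℕ} (hn : n = p ^ t) :
    Nat.card ↥(Subgroup.zpowers a ⊔ Subgroup.zpowers b) = n ^ 2 := by
  have ha : orderOf a = n := by
    refine Nat.dvd_antisymm (orderOf_dvd_of_pow_eq_one T.pa) ?_
    exact (T.dvd_of_eq_one hn (i := orderOf a) (j := 0) (by rw [pow_orderOf_eq_one, pow_zero, mul_one])).1
  have hb : orderOf b = n := by
    refine Nat.dvd_antisymm (orderOf_dvd_of_pow_eq_one T.pb) ?_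
    exact (T.dvd_of_eq_one hn (i := 0) (j := orderOf b) (by rw [pow_orderOf_eq_one, pow_zero, mul_one])).2
  have hcomm : ∀ (x : ↥(Subgroup.zpowers a)) (y : ↥(Subgroup.zpowers b)),
      Commute ((Subgroup.zpowers a).subtype x) ((Subgroup.zpowers b).subtype y) := by
    rintro ⟨x, i, rfl⟩ ⟨y, j, rfl⟩
    exact (show Commute a b from T.comm).zpow_zpow i j
  let f := MonoidHom.noncommCoprod (Subgroup.zpowers a).subtype (Subgroup.zpowers b).subtype hcomm
  have hinj : Function.Injective f := by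
    rw [injective_iff_map_eq_one]
    rintro ⟨⟨x, hx⟩, ⟨y, hy⟩⟩ h
    obtain ⟨i, rfl⟩ := (isOfFinOrder_of_finite a).mem_powers_iff_mem_zpowers.2 hx
    obtain ⟨j, rfl⟩ := (isOfFinOrder_of_finite b).mem_powers_iff_mem_zpowers.2 hy
    have h1 : a ^ i * b ^ j = 1 := h
    obtain ⟨h2, h3⟩ := T.dvd_of_eq_one hn h1
    refine Prod.ext (Subtype.ext ?_) (Subtype.ext ?_)
    · exact orderOf_dvd_iff_pow_eq_one.1 (by rw [ha]; exact h2)
    · exact orderOf_dvd_iff_pow_eq_one.1 (by rw [hb]; exact h3)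
  have hr : f.range = Subgroup.zpowers a ⊔ Subgroup.zpowers b := by
    rw [MonoidHom.noncommCoprod_range, Subgroup.range_subtype, Subgroup.range_subtype]
  rw [← hr, Nat.card_congr (MonoidHom.ofInjective hinj).symm.toEquiv, Nat.card_prod, Nat.card_zpowers,
    Nat.card_zpowers, ha, hb, sq]

end card

/-- abelian Sylow `p`-subgroup with two linearly independent invariant forms of degree `D` -/
def Two (p D : ℕ) (K : Type u) [Group K] : Prop :=
  ∃ P : Sylow p K, (∀ x ∈ P, ∀ y ∈ P, x * y = y * x) ∧ ∃ F₁ F₂ : LL p P → ZMod p,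
    F₁ ∈ Pol p P D ∧ F₂ ∈ Pol p P D ∧ WInv P F₁ ∧ WInv P F₂ ∧ LinearIndependent (ZMod p) ![F₁, F₂]

theorem winv_mul {p : ℕ} {P : Sylow p K} {f g : LL p P → ZMod p} (hf : WInv P f) (hg : WInv P g) : WInv P (f * g) := by
  intro n hn l l' hl
  rw [Pi.mul_apply, Pi.mul_apply, hf n hn l l' hl, hg n hn l l' hl]

theorem winv_pow {p : ℕ} {P : Sylow p K} {f : LL p P → ZMod p} (hf : WInv P f) (i : ℕ) : WInv P (f ^ i) := by
  intro n hn l l' hl
  rw [Pi.pow_apply, Pi.pow_apply, hf n hn l l' hl]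

theorem linInd_of_det {p : ℕ} [hpp : Fact p.Prime] {α : Type*} {F₁ F₂ : α → ZMod p} (x y : α)
    (h : F₁ x * F₂ y - F₁ y * F₂ x ≠ 0) : LinearIndependent (ZMod p) ![F₁, F₂] := by
  rw [LinearIndependent.pair_iff]
  intro s t hst
  have h1 := congrFun hst x
  have h2 := congrFun hst y
  simp only [Pi.add_apply, Pi.smul_apply, smul_eq_mul, Pi.zero_apply] at h1 h2
  refine ⟨(mul_eq_zero.1 (?_ : s * (F₁ x * F₂ y - F₁ y * F₂ x) = 0)).resolve_right h,
    (mul_eq_zero.1 (?_ : t * (F₁ x * F₂ y - F₁ y * F₂ x) = 0)).resolve_right h⟩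
  · linear_combination F₂ y * h1 - F₂ x * h2
  · linear_combination F₁ x * h2 - F₁ y * h1

section two

variable {φ : K →* GL ι k} {p n : ℕ} {z : k} {a b : K} {d e : ι → ℤ} {A C : ℤ} (T : Tor φ p n z a b d e A C)
  [hpp : Fact p.Prime] [Finite K] {P : Sylow p K} (hP : (P : Subgroup K) = Subgroup.zpowers a ⊔ Subgroup.zpowers b)

include T hP

theorem Tor.abel : ∀ x ∈ P, ∀ y ∈ P, x * y = y * x := by
  intro x hx y hy
  obtain ⟨i, j, rfl⟩ := T.exists_nat (hP ▸ (show x ∈ (P : Subgroup K) from hx))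
  obtain ⟨i', j', rfl⟩ := T.exists_nat (hP ▸ (show y ∈ (P : Subgroup K) from hy))
  rw [T.mul_ab, T.mul_ab, add_comm i, add_comm j]

theorem Tor.exists_one (hp2 : p ≠ 2) : ∃ l : LL p P, ∀ m : ℕ,
    form p A C d e (⟨a, mem_a hP⟩ : P) ⟨b, mem_b hP⟩ m l = ((∑ x, d x ^ m : ℤ) : ZMod p) := by
  obtain ⟨l, h1, h2⟩ := T.exists_pt hP hp2 (C : ZMod p)⁻¹ 0
  refine ⟨l, fun m => ?_⟩
  unfold form
  rw [h1, h2]
  push_cast
  refine Finset.sum_congr rfl fun x _ => ?_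
  rw [mul_zero, add_zero, mul_comm (C : ZMod p), mul_assoc, mul_inv_cancel₀ T.C0, mul_one]

theorem Tor.exists_two (hp2 : p ≠ 2) : ∃ l : LL p P, ∀ m : ℕ,
    form p A C d e (⟨a, mem_a hP⟩ : P) ⟨b, mem_b hP⟩ m l = ((∑ x, e x ^ m : ℤ) : ZMod p) := by
  obtain ⟨l, h1, h2⟩ := T.exists_pt hP hp2 0 (A : ZMod p)⁻¹
  refine ⟨l, fun m => ?_⟩
  unfold form
  rw [h1, h2]
  push_cast
  refine Finset.sum_congr rfl fun x _ => ?_
  rw [mul_zero, zero_add, mul_comm (A : ZMod p), mul_assoc, mul_inv_cancel₀ T.A0, mul_one]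

/-- two forms `f₂ ^ i` and `f_c f₂ ^ j` of degree `D = 2 i = c + 2 j`, independent at two points -/
theorem Tor.two (hp2 : p ≠ 2) {D i j c : ℕ} (h1 : i * 2 = D) (h2 : c + j * 2 = D) {S S' : ℤ} (hS : ∑ x, d x ^ c = S)
    (hS' : ∑ x, e x ^ c = S') (hdet : ((A ^ (i - j) * S' - C ^ (i - j) * S : ℤ) : ZMod p) ≠ 0) : Two p D K := by
  have hij : i = j + (i - j) := by omega
  obtain ⟨x, hx⟩ := T.exists_one hP hp2
  obtain ⟨y, hy⟩ := T.exists_two hP hp2
  refine ⟨P, T.abel hP, form p A C d e (⟨a, mem_a hP⟩ : P) ⟨b, mem_b hP⟩ 2 ^ i,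
    form p A C d e (⟨a, mem_a hP⟩ : P) ⟨b, mem_b hP⟩ c * form p A C d e (⟨a, mem_a hP⟩ : P) ⟨b, mem_b hP⟩ 2 ^ j,
    ?_, ?_, ?_, ?_, linInd_of_det x y ?_⟩
  · rw [← h1]
    exact Pol_pow (form_pol A C d e _ _ 2) i
  · rw [← h2]
    exact Pol_mul (form_pol A C d e _ _ c) (Pol_pow (form_pol A C d e _ _ 2) j)
  · exact winv_pow (T.form_winv hP hp2 2) i
  · exact winv_mul (T.form_winv hP hp2 c) (winv_pow (T.form_winv hP hp2 2) j)
  · simp only [Pi.pow_apply, Pi.mul_apply, hx, hy, T.hA, T.hC, hS, hS']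
    have h3 : (A : ZMod p) ^ i * ((S' : ZMod p) * (C : ZMod p) ^ j) - (C : ZMod p) ^ i * ((S : ZMod p) * (A : ZMod p) ^ j) =
        (A : ZMod p) ^ j * (C : ZMod p) ^ j * ((A ^ (i - j) * S' - C ^ (i - j) * S : ℤ) : ZMod p) := by
      push_cast
      conv_lhs => rw [hij]
      rw [pow_add, pow_add]
      ring
    rw [h3]
    exact mul_ne_zero (mul_ne_zero (pow_ne_zero _ T.A0) (pow_ne_zero _ T.C0)) hdet

end two

end Cfsg.Agent.H852.XG
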